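/- Long exact homology sequence of the right derived functor on `D⁺`. -/
import Mathlib.Algebra.Homology.DerivedCategory.RightDerivedFunctorPlus
import Mathlib.Algebra.Homology.DerivedCategory.HomologySequence
import Mathlib.Algebra.Homology.DerivedCategory.ShortExact
import Mathlib.CategoryTheory.Abelian.Exact

set_option autoImplicit false

open CategoryTheory CategoryTheory.Limits CategoryTheory.Pretriangulated

universe w w' v v' u u'

namespace Groth.Agent.DerPlus.LongExact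

variable {C : Type u} [Category.{v} C] [Abelian C] [HasDerivedCategory.{w} C] [EnoughInjectives C]
  {D : Type u'} [Category.{v'} D] [Abelian D] [HasDerivedCategory.{w'} D]

/-- `K⁺(Inj C) ⥤ D⁺(C)`. -/
noncomputable abbrev Φ (C : Type u) [Category.{v} C] [Abelian C] [HasDerivedCategory.{w} C] :
    HomotopyCategory.Plus (InjectiveObject C) ⥤ DerivedCategory.Plus C :=
  (InjectiveObject.ι C).mapHomotopyCategoryPlus ⋙ DerivedCategory.Plus.Qh

omit [EnoughInjectives C] in
lemma Φ_map_surjective {K L : HomotopyCategory.Plus (InjectiveObject C)}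
    (a : (Φ C).obj K ⟶ (Φ C).obj L) : ∃ f : K ⟶ L, (Φ C).map f = a := by
  obtain ⟨L₀, rfl⟩ := HomotopyCategory.Plus.quotient_obj_surjective L
  have hinj : CochainComplex.IsKInjective
      (((InjectiveObject.ι C).mapHomologicalComplex (.up ℤ)).obj L₀.obj) := inferInstance
  obtain ⟨g, hg⟩ := (DerivedCategory.Plus.Qh_map_bijective_of_isKInjective
    ((InjectiveObject.ι C).mapHomotopyCategoryPlus.obj K)
    ((InjectiveObject.ι C).mapHomotopyCategoryPlus.obj ((HomotopyCategory.Plus.quotient _).obj L₀))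
    hinj).2 a
  obtain ⟨f, rfl⟩ := (InjectiveObject.ι C).mapHomotopyCategoryPlus.map_surjective g
  exact ⟨f, hg⟩

variable (T : C ⥤ D) [T.Additive]

/-- The composite `K⁺(Inj C) ⥤ D⁺(D)`. -/
noncomputable abbrev G : HomotopyCategory.Plus (InjectiveObject C) ⥤ DerivedCategory.Plus D :=
  (InjectiveObject.ι C).mapHomotopyCategoryPlus ⋙ T.mapHomotopyCategoryPlus ⋙
    DerivedCategory.Plus.Qh

/-- `RT` composed with `Φ` is computed termwise. -/
noncomputable def compIso : G T ≅ Φ C ⋙ T.rightDerivedFunctorPlus :=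
  NatIso.ofComponents
    (fun X => asIso (T.rightDerivedFunctorPlusUnit.app
      ((InjectiveObject.ι C).mapHomotopyCategoryPlus.obj X)))
    (fun f => T.rightDerivedFunctorPlusUnit.naturality
      ((InjectiveObject.ι C).mapHomotopyCategoryPlus.map f))

/-- Long exact sequence attached by `RT` to a distinguished triangle of `D⁺(C)`. -/
theorem exact_of_distTriang {X₁ X₂ X₃ : DerivedCategory.Plus C} (a : X₁ ⟶ X₂) (b : X₂ ⟶ X₃)
    (h : ∃ c : X₃ ⟶ X₁⟦(1 : ℤ)⟧, Triangle.mk a b c ∈ distTriang _) (n m : ℤ) (hnm : n + 1 = m) :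
    let Hn := T.rightDerivedFunctorPlus ⋙ DerivedCategory.Plus.homologyFunctor D n
    let Hm := T.rightDerivedFunctorPlus ⋙ DerivedCategory.Plus.homologyFunctor D m
    ∃ (w : Hn.map a ≫ Hn.map b = 0) (δ : Hn.obj X₃ ⟶ Hm.obj X₁)
      (w₂ : Hn.map b ≫ δ = 0) (w₃ : δ ≫ Hm.map a = 0),
      (ShortComplex.mk _ _ w).Exact ∧ (ShortComplex.mk _ _ w₂).Exact ∧
      (ShortComplex.mk _ _ w₃).Exact := by
  intro Hn Hm
  obtain ⟨c, hc⟩ := h
  let Y₁ := (Φ C).objPreimage X₁
  let Y₂ := (Φ C).objPreimage X₂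
  let e₁ : (Φ C).obj Y₁ ≅ X₁ := (Φ C).objObjPreimageIso X₁
  let e₂ : (Φ C).obj Y₂ ≅ X₂ := (Φ C).objObjPreimageIso X₂
  obtain ⟨f, hf⟩ := Φ_map_surjective (e₁.hom ≫ a ≫ e₂.inv)
  obtain ⟨Y₃, g, k, hS⟩ := distinguished_cocone_triangle f
  let S := Triangle.mk f g k
  have hΦS := (Φ C).map_distinguished S hS
  let ψ : (Φ C).mapTriangle.obj S ≅ Triangle.mk a b c :=
    isoTriangleOfIso₁₂ _ _ hΦS hc e₁ e₂ (by
      change (Φ C).map f ≫ e₂.hom = e₁.hom ≫ a
      rw [hf, Category.assoc, Category.assoc, e₂.inv_hom_id, Category.comp_id])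
  let e₃ : (Φ C).obj Y₃ ≅ X₃ := Triangle.π₃.mapIso ψ
  have c₁ : (Φ C).map f ≫ e₂.hom = e₁.hom ≫ a := by
    rw [hf, Category.assoc, Category.assoc, e₂.inv_hom_id, Category.comp_id]
  have c₂ : (Φ C).map g ≫ e₃.hom = e₂.hom ≫ b := by
    have := ψ.hom.comm₂
    simp only [ψ, isoTriangleOfIso₁₂_hom_hom₂] at this
    exact this

  have hG := (DerivedCategory.Plus.ι (C := D)).map_distinguished _ ((G T).map_distinguished S hS)
  let U := (DerivedCategory.Plus.ι (C := D)).mapTriangle.obj ((G T).mapTriangle.obj S)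
  let η : ∀ (k : ℤ), G T ⋙ DerivedCategory.Plus.homologyFunctor D k ≅
      Φ C ⋙ T.rightDerivedFunctorPlus ⋙ DerivedCategory.Plus.homologyFunctor D k := fun k =>
    Functor.isoWhiskerRight (compIso T) (DerivedCategory.Plus.homologyFunctor D k)
  let i₁ (k : ℤ) := (η k).app Y₁ ≪≫
    (T.rightDerivedFunctorPlus ⋙ DerivedCategory.Plus.homologyFunctor D k).mapIso e₁
  let i₂ (k : ℤ) := (η k).app Y₂ ≪≫
    (T.rightDerivedFunctorPlus ⋙ DerivedCategory.Plus.homologyFunctor D k).mapIso e₂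
  let i₃ (k : ℤ) := (η k).app Y₃ ≪≫
    (T.rightDerivedFunctorPlus ⋙ DerivedCategory.Plus.homologyFunctor D k).mapIso e₃
  let Gk := fun k => G T ⋙ DerivedCategory.Plus.homologyFunctor D k
  let Hk := fun k => T.rightDerivedFunctorPlus ⋙ DerivedCategory.Plus.homologyFunctor D k
  have hU₁ : ∀ k, (i₁ k).hom ≫ (Hk k).map a = (Gk k).map f ≫ (i₂ k).hom := by
    intro k
    simp only [Hk, i₁, i₂, Iso.trans_hom, Iso.app_hom, Functor.mapIso_hom, Category.assoc,
      ← Functor.map_comp, ← c₁, Gk]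
    rw [(η k).hom.naturality_assoc]
    simp only [Functor.comp_map, ← Functor.map_comp]
  have hU₂ : (i₂ n).hom ≫ (Hk n).map b = (Gk n).map g ≫ (i₃ n).hom := by
    simp only [Hk, i₂, i₃, Iso.trans_hom, Iso.app_hom, Functor.mapIso_hom, Category.assoc,
      ← Functor.map_comp, ← c₂, Gk]
    rw [(η n).hom.naturality_assoc]
    simp only [Functor.comp_map, ← Functor.map_comp]
  let δ₀ : (Gk n).obj Y₃ ⟶ (Gk m).obj Y₁ := DerivedCategory.HomologySequence.δ U n m hnm
  have z₁ : (Gk n).map f ≫ (Gk n).map g = 0 := by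
    rw [← Functor.map_comp, show f ≫ g = 0 from comp_distTriang_mor_zero₁₂ _ hS, Functor.map_zero]
  have z₂ : (Gk n).map g ≫ δ₀ = 0 := DerivedCategory.HomologySequence.comp_δ U hG n m hnm
  have z₃ : δ₀ ≫ (Gk m).map f = 0 := DerivedCategory.HomologySequence.δ_comp U hG n m hnm
  have x₁ : (ShortComplex.mk _ _ z₁).Exact := DerivedCategory.HomologySequence.exact₂ U hG n
  have x₂ : (ShortComplex.mk _ _ z₂).Exact :=
    DerivedCategory.HomologySequence.exact₃ U hG n m hnm
  have x₃ : (ShortComplex.mk _ _ z₃).Exact :=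
    DerivedCategory.HomologySequence.exact₁ U hG n m hnm
  let δ : (Hk n).obj X₃ ⟶ (Hk m).obj X₁ := (i₃ n).inv ≫ δ₀ ≫ (i₁ m).hom
  have hδ : (i₃ n).hom ≫ δ = δ₀ ≫ (i₁ m).hom := by simp [δ]
  have w : (Hk n).map a ≫ (Hk n).map b = 0 := by
    rw [← cancel_epi (i₁ n).hom, reassoc_of% (hU₁ n), hU₂, ← Category.assoc, z₁,
      zero_comp, comp_zero]
  have w₂ : (Hk n).map b ≫ δ = 0 := by
    rw [← cancel_epi (i₂ n).hom, reassoc_of% hU₂, hδ, ← Category.assoc, z₂,
      zero_comp, comp_zero]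
  have w₃ : δ ≫ (Hk m).map a = 0 := by
    rw [← cancel_epi (i₃ n).hom, reassoc_of% hδ, hU₁ m, ← Category.assoc, z₃,
      zero_comp, comp_zero]
  exact ⟨w, δ, w₂, w₃,
    ShortComplex.exact_of_iso (ShortComplex.isoMk (i₁ n) (i₂ n) (i₃ n) (hU₁ n) hU₂) x₁,
    ShortComplex.exact_of_iso (ShortComplex.isoMk (i₂ n) (i₃ n) (i₁ m) hU₂ hδ) x₂,
    ShortComplex.exact_of_iso (ShortComplex.isoMk (i₃ n) (i₁ m) (i₂ m) hδ (hU₁ m)) x₃⟩

omit [EnoughInjectives C] in
/-- A short exact sequence of bounded below complexes gives a distinguished triangle in `D⁺`. -/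
theorem exists_distTriang {K₁ K₂ K₃ : CochainComplex.Plus C} (f : K₁ ⟶ K₂) (g : K₂ ⟶ K₃)
    (w : f.hom ≫ g.hom = 0) (hS : (ShortComplex.mk f.hom g.hom w).ShortExact) :
    ∃ c, Triangle.mk ((HomotopyCategory.Plus.quotient C ⋙ DerivedCategory.Plus.Qh).map f)
      ((HomotopyCategory.Plus.quotient C ⋙ DerivedCategory.Plus.Qh).map g) c ∈ distTriang _ := by
  let L := HomotopyCategory.Plus.quotient C ⋙ DerivedCategory.Plus.Qh
  obtain ⟨Z, g₀, k₀, hd⟩ := distinguished_cocone_triangle (L.map f)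
  let ι := DerivedCategory.Plus.ι (C := C)
  have hι := ι.map_distinguished _ hd
  let φ := DerivedCategory.quotientCompQhIso C
  let ψ := isoTriangleOfIso₁₂ _ _ hι (DerivedCategory.triangleOfSES_distinguished hS)
    (φ.app K₁.obj) (φ.app K₂.obj) (φ.hom.naturality f.hom)
  let e : Z ≅ L.obj K₃ := ι.preimageIso (Triangle.π₃.mapIso ψ ≪≫ (φ.app K₃.obj).symm)
  have he : g₀ ≫ e.hom = L.map g := by
    apply ι.map_injective
    have h1 := ψ.hom.comm₂
    have h2 := φ.hom.naturality g.hom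
    simp only [ψ, isoTriangleOfIso₁₂_hom_hom₂] at h1
    change ι.map g₀ ≫ ψ.hom.hom₃ = φ.hom.app K₂.obj ≫ DerivedCategory.Q.map g.hom at h1
    rw [Functor.map_comp]
    simp only [e, Functor.preimageIso_hom, Functor.map_preimage, Iso.trans_hom,
      Functor.mapIso_hom, Triangle.π₃_map, Iso.symm_hom, Iso.app_inv]
    exact (Category.assoc _ _ _).symm.trans
      ((congrArg (· ≫ φ.inv.app K₃.obj) (h1.trans h2.symm)).trans
        ((Category.assoc _ _ _).trans
          ((congrArg (_ ≫ ·) (Iso.hom_inv_id_app φ _)).trans (Category.comp_id _))))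
  refine ⟨e.inv ≫ k₀, isomorphic_distinguished _ hd _ ?_⟩
  exact Triangle.isoMk _ _ (Iso.refl _) (Iso.refl _) e.symm
    ((Category.comp_id _).trans (Category.id_comp _).symm)
    (by
      change L.map g ≫ e.inv = 𝟙 _ ≫ g₀
      rw [← he, Category.assoc, e.hom_inv_id, Category.comp_id, Category.id_comp])
    ((congrArg (_ ≫ ·) (CategoryTheory.Functor.map_id _ _)).trans (Category.comp_id _))

end Groth.Agent.DerPlus.LongExact
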